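import Groth.Agent.Lib.AcyclicSum8.Main
import Groth.Agent.Lib.DerLimC.Compact
import Groth.Agent.Lib.ClassRes.Dual
import Mathlib.Algebra.Homology.DerivedCategory.ShortExact
import Mathlib.Algebra.Homology.DerivedCategory.TStructure
import Mathlib.Algebra.Category.Grp.EpiMono

/-!
Compact objects of the derived category are retracts of bounded complexes of finite sums of generators.
-/

set_option autoImplicit false
set_option backward.isDefEq.respectTransparency false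

universe v u

open CategoryTheory CategoryTheory.Limits Pretriangulated Opposite
open DerivedCategory (Q)

namespace Groth.Agent.CptRetract8

variable {A : Type u} [Category.{v} A] [Abelian A] [IsGrothendieckAbelian.{v} A]
  [HasDerivedCategory.{v} A] [HasCoproducts.{v} (DerivedCategory A)]

theorem exists_finite_support {K : DerivedCategory A} (hK : CohDer.IsCompactObject K) {ι : Type v}
    (X : ι → CochainComplex A ℤ) (ψ : K ⟶ Q.obj (∐ X)) :
    ∃ s : Finset ι, ∀ {Z : CochainComplex A ℤ} (g : ∐ X ⟶ Z), (∀ i ∈ s, Sigma.ι X i ≫ g = 0) → ψ ≫ Q.map g = 0 := by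
  obtain ⟨hc⟩ := AcyclicSum8.isColimit_Q (Cofan.mk (∐ X) (Sigma.ι X)) (coproductIsCoproduct X)
  let e : (∐ fun i => Q.obj (X i)) ≅ Q.obj (∐ X) := (coproductIsCoproduct _).coconePointUniqueUpToIso hc
  have he : ∀ i, Sigma.ι (fun i => Q.obj (X i)) i ≫ e.hom = Q.map (Sigma.ι X i) := fun i =>
    IsColimit.comp_coconePointUniqueUpToIso_hom (coproductIsCoproduct _) hc ⟨i⟩
  obtain ⟨s, u, hu⟩ := DerLimC.exists_sum hK (ψ ≫ e.inv)
  refine ⟨s, fun g hg => ?_⟩
  have h : ψ = (∑ i ∈ s, u i ≫ Sigma.ι (fun i => Q.obj (X i)) i) ≫ e.hom := by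
    rw [← hu, Category.assoc, e.inv_hom_id, Category.comp_id]
  rw [h, Preadditive.sum_comp, Preadditive.sum_comp]
  refine Finset.sum_eq_zero fun i hi => ?_
  rw [Category.assoc, Category.assoc, reassoc_of% (he i), ← Q.map_comp, hg i hi, Functor.map_zero, comp_zero]

/-- A degreewise eventually vanishing sequence of maps out of a compact object is eventually zero. -/
theorem eventually_zero {K : DerivedCategory A} (hK : CohDer.IsCompactObject K) (P : CochainComplex A ℤ)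
    (φ : K ⟶ Q.obj P) (X : ℕ → CochainComplex A ℤ) (f : ∀ k, P ⟶ X k) (N : ℤ → ℕ)
    (hN : ∀ i k, N i ≤ k → IsZero ((X k).X i)) : ∃ k₀, ∀ k, k₀ ≤ k → φ ≫ Q.map (f k) = 0 := by
  classical
  let Y : ULift.{v} ℕ → CochainComplex A ℤ := fun k => X k.down
  let F : ∀ k, P ⟶ ∐ Y := fun k => f k ≫ Sigma.ι Y ⟨k⟩
  have hz : ∀ i k, N i ≤ k → (F k).f i = 0 := fun i k h => by
    rw [show (F k).f i = (f k).f i ≫ (Sigma.ι Y ⟨k⟩).f i from rfl, (hN i k h).eq_of_tgt ((f k).f i) 0, zero_comp]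
  have hext : ∀ (i : ℤ) (M : ℕ), N i ≤ M → ∑ k ∈ Finset.range (N i), (F k).f i = ∑ k ∈ Finset.range M, (F k).f i :=
    fun i M hM => Finset.sum_subset (Finset.range_mono hM) fun k _ hk => hz i k (by simpa using hk)
  let Φ : P ⟶ ∐ Y :=
    { f := fun i => ∑ k ∈ Finset.range (N i), (F k).f i
      comm' := fun i j _ => by
        rw [hext i (max (N i) (N j)) (le_max_left _ _), hext j (max (N i) (N j)) (le_max_right _ _),
          Preadditive.sum_comp, Preadditive.comp_sum]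
        exact Finset.sum_congr rfl fun k _ => (F k).comm i j }
  have hΦ : ∀ k, Φ ≫ Sigma.π Y ⟨k⟩ = f k := fun k => by
    ext i
    show (∑ l ∈ Finset.range (N i), (F l).f i) ≫ (Sigma.π Y ⟨k⟩).f i = _
    rw [hext i (max (N i) (k + 1)) (le_max_left _ _), Preadditive.sum_comp,
      Finset.sum_eq_single k (fun l _ hl => by
        rw [← HomologicalComplex.comp_f, Category.assoc, Sigma.ι_π_of_ne _ (fun h => hl (congrArg ULift.down h)), comp_zero]
        rfl) (fun h => absurd (Finset.mem_range.2 (lt_of_lt_of_le (Nat.lt_succ_self k) (le_max_right _ _))) h)]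
    rw [← HomologicalComplex.comp_f, Category.assoc, Sigma.ι_π_eq_id, Category.comp_id]
  obtain ⟨s, hs⟩ := exists_finite_support hK Y (φ ≫ Q.map Φ)
  refine ⟨s.sup (fun k => k.down + 1), fun k hk => ?_⟩
  rw [← hΦ k, Q.map_comp, ← Category.assoc]
  refine hs _ fun l hl => Sigma.ι_π_of_ne _ fun h => ?_
  have := Finset.le_sup (f := fun k : ULift.{v} ℕ => k.down + 1) hl
  have h' : l.down = k := congrArg ULift.down h
  omega

theorem exists_bound {K : DerivedCategory A} (hK : CohDer.IsCompactObject K) : ∃ b : ℤ, K.IsLE b := by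
  obtain ⟨P, ⟨e⟩⟩ : ∃ P : CochainComplex A ℤ, Nonempty (Q.obj P ≅ K) :=
    haveI : (Q : CochainComplex A ℤ ⥤ DerivedCategory A).EssSurj :=
      Localization.essSurj _ (HomologicalComplex.quasiIso A (ComplexShape.up ℤ))
    ⟨Q.objPreimage K, ⟨Q.objObjPreimageIso K⟩⟩
  obtain ⟨k₀, hk⟩ := eventually_zero hK P e.inv (fun k => P.truncGE (k : ℤ)) (fun k => P.πTruncGE (k : ℤ))
    (fun i => i.toNat + 1) fun i k h => (P.truncGE (k : ℤ)).isZero_of_isStrictlyGE (k : ℤ) i (by omega)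
  refine ⟨k₀, ?_⟩
  rw [DerivedCategory.isLE_iff]
  intro i hi
  have h0 := hk k₀ le_rfl
  haveI : IsIso (HomologicalComplex.homologyMap (P.πTruncGE (k₀ : ℤ)) i) := by
    rw [← quasiIsoAt_iff_isIso_homologyMap]
    exact P.quasiIsoAt_πTruncGE _ _ (by omega)
  have h1 : (DerivedCategory.homologyFunctor A i).map (Q.map (P.πTruncGE (k₀ : ℤ))) = 0 := by
    rw [← cancel_epi ((DerivedCategory.homologyFunctor A i).map e.inv), ← Functor.map_comp, h0, Functor.map_zero,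
      comp_zero]
  haveI : IsIso ((DerivedCategory.homologyFunctor A i).map (Q.map (P.πTruncGE (k₀ : ℤ)))) :=
    (NatIso.isIso_map_iff (DerivedCategory.homologyFunctorFactors A i) (P.πTruncGE (k₀ : ℤ))).2
      ‹IsIso (HomologicalComplex.homologyMap (P.πTruncGE (k₀ : ℤ)) i)›
  refine IsZero.of_iso ?_ ((DerivedCategory.homologyFunctor A i).mapIso e.symm)
  rw [IsZero.iff_id_eq_zero, ← IsIso.hom_inv_id ((DerivedCategory.homologyFunctor A i).map (Q.map (P.πTruncGE (k₀ : ℤ))))]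
  exact (congrArg (· ≫ _) h1).trans zero_comp

theorem exists_factor_of_shortExact {K : DerivedCategory A} {S : ShortComplex (CochainComplex A ℤ)} (hS : S.ShortExact)
    (φ : K ⟶ Q.obj S.X₂) (h : φ ≫ Q.map S.g = 0) : ∃ ψ : K ⟶ Q.obj S.X₁, ψ ≫ Q.map S.f = φ := by
  obtain ⟨ψ, hψ⟩ := Triangle.coyoneda_exact₂ _ (DerivedCategory.triangleOfSES_distinguished hS) φ h
  exact ⟨ψ, hψ.symm⟩

/-- Sums of members of `S`. -/
def Sums (S : Set A) (X : A) : Prop := ∃ (ι : Type v) (E : ι → A), (∀ i, E i ∈ S) ∧ Nonempty (X ≅ ∐ E)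

theorem exists_bounded (S : Set A)
    (h1 : ∀ X : A, ∃ (ι : Type v) (E : ι → A) (π : ∐ E ⟶ X), (∀ i, E i ∈ S) ∧ Epi π)
    {K : DerivedCategory A} (hK : CohDer.IsCompactObject K) :
    ∃ (L : CochainComplex A ℤ) (a b : ℤ) (φ : K ⟶ Q.obj L) (r : Q.obj L ⟶ K), φ ≫ r = 𝟙 K ∧
      (∀ i, i < a ∨ b < i → IsZero (L.X i)) ∧ ∀ i, Sums S (L.X i) := by
  obtain ⟨b, hb⟩ := exists_bound hK
  obtain ⟨K₀, _, ⟨e₀⟩⟩ := DerivedCategory.exists_iso_Q_obj_of_isLE K b
  have h0 : ∃ Z : A, IsZero Z ∧ Sums S Z :=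
    ⟨∐ (PEmpty.elim : PEmpty.{v + 1} → A), (IsZero.iff_id_eq_zero _).2 (Sigma.hom_ext _ _ fun x => x.elim),
      PEmpty, PEmpty.elim, fun i => i.elim, ⟨Iso.refl _⟩⟩
  obtain ⟨P, s, hP, hPS, hs⟩ := ClassRes.exists_leftResolution (P := Sums S) h0 (fun X => by
    obtain ⟨ι, E, π, hE, hπ⟩ := h1 X
    exact ⟨∐ E, π, ⟨ι, E, hE, ⟨Iso.refl _⟩⟩, hπ⟩) K₀ b
  haveI := hs
  let φ : K ⟶ Q.obj P := e₀.hom ≫ CategoryTheory.inv (Q.map s)
  let S' : ℕ → ShortComplex (CochainComplex A ℤ) := fun k =>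
    ShortComplex.mk (AcyclicSum8.σι P k) (cokernel.π _) (cokernel.condition _)
  have hS' : ∀ k, (S' k).ShortExact := fun k => { exact := ShortComplex.exact_cokernel _ }
  have hz : ∀ (i : ℤ) (k : ℕ), i.natAbs ≤ k → IsZero ((S' k).X₃.X i) := fun i k h => by
    haveI : IsIso ((AcyclicSum8.σι P k).f i) := AcyclicSum8.isIso_cut_ι P (by omega)
    rw [IsZero.iff_id_eq_zero, ← cancel_epi ((S' k).g.f i), ← cancel_epi ((AcyclicSum8.σι P k).f i), comp_zero, comp_zero,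
      Category.comp_id, ← HomologicalComplex.comp_f]
    exact congrArg (fun z => HomologicalComplex.Hom.f z i) (cokernel.condition (AcyclicSum8.σι P k))
  obtain ⟨k, hk⟩ := eventually_zero hK P φ (fun k => (S' k).X₃) (fun k => (S' k).g) Int.natAbs hz
  obtain ⟨ψ, hψ⟩ := exists_factor_of_shortExact (hS' k) φ (hk k le_rfl)
  refine ⟨AcyclicSum8.σ P k, -(k : ℤ), b, ψ, Q.map (AcyclicSum8.σι P k) ≫ Q.map s ≫ e₀.inv, ?_, fun i hi => ?_, fun i => ?_⟩
  · rw [← Category.assoc, hψ]; simp [φ]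
  · rcases hi with hi | hi
    · exact AcyclicSum8.isZero_cut P (by omega)
    · exact IsZero.of_mono ((AcyclicSum8.σι P k).f i) (P.isZero_of_isStrictlyLE b i hi)
  · by_cases h : -(k : ℤ) ≤ i
    · haveI := AcyclicSum8.isIso_cut_ι P h
      obtain ⟨ι, E, hE, ⟨e⟩⟩ := hPS i
      exact ⟨ι, E, hE, ⟨asIso (kernel.ι (AcyclicSum8.cut P k i)) ≪≫ e⟩⟩
    · obtain ⟨Z, hZ, ι, E, hE, ⟨e⟩⟩ := h0
      exact ⟨ι, E, hE, ⟨(AcyclicSum8.isZero_cut P h).iso hZ ≪≫ e⟩⟩

end Groth.Agent.CptRetract8
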