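import Groth.Agent.Lib.CptRetract8.Basic
import Mathlib.CategoryTheory.Preadditive.Biproducts
import Mathlib.CategoryTheory.Preadditive.Yoneda.Basic
import Mathlib.Algebra.Category.Grp.Colimits

/-!
Cutting the sums down to finite ones, degree by degree.
-/

set_option autoImplicit false
set_option backward.isDefEq.respectTransparency false

universe v u

open CategoryTheory CategoryTheory.Limits Pretriangulated Opposite
open DerivedCategory (Q)

namespace Groth.Agent.CptRetract8

variable {A : Type u} [Category.{v} A] [Abelian A] [HasFiniteBiproducts A]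

/-- Finite sums of members of `S`. -/
def FinSums (S : Set A) (X : A) : Prop := ∃ (n : ℕ) (E : Fin n → A), (∀ j, E j ∈ S) ∧ Nonempty (X ≅ ⨁ E)

theorem finSums_of_isZero (S : Set A) {X : A} (hX : IsZero X) : FinSums S X :=
  ⟨0, Fin.elim0, fun j => j.elim0, ⟨hX.iso ((IsZero.iff_id_eq_zero _).2 (biproduct.hom_ext _ _ fun j => j.elim0))⟩⟩

variable [HasCoproducts.{v} A]

open Classical in
/-- Projection of a sum to the members outside `T`. -/
noncomputable def away {ι : Type v} (E : ι → A) (T : Finset ι) : ∐ E ⟶ ∐ fun x : {x // x ∉ T} => E x.1 :=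
  Sigma.desc fun i => if h : i ∈ T then 0 else Sigma.ι (fun x : {x // x ∉ T} => E x.1) ⟨i, h⟩

theorem ι_away_mem {ι : Type v} (E : ι → A) (T : Finset ι) {i : ι} (h : i ∈ T) : Sigma.ι E i ≫ away E T = 0 := by
  classical
  simp [away, h]

theorem ι_away_not_mem {ι : Type v} (E : ι → A) (T : Finset ι) {i : ι} (h : i ∉ T) :
    Sigma.ι E i ≫ away E T = Sigma.ι (fun x : {x // x ∉ T} => E x.1) ⟨i, h⟩ := by
  classical
  simp [away, h]

theorem kernel_away {ι : Type v} (E : ι → A) (T : Finset ι) :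
    Epi (away E T) ∧ Nonempty (kernel (away E T) ≅ ⨁ fun j : Fin T.card => E (T.equivFin.symm j).1) := by
  classical
  let e := T.equivFin
  let E' : Fin T.card → A := fun j => E (e.symm j).1
  let jn : ⨁ E' ⟶ ∐ E := biproduct.desc fun j => Sigma.ι E (e.symm j).1
  let sec : (∐ fun x : {x // x ∉ T} => E x.1) ⟶ ∐ E := Sigma.desc fun x => Sigma.ι E x.1
  have hw : jn ≫ away E T = 0 := biproduct.hom_ext' _ _ fun j => by simp [jn, ι_away_mem E T (e.symm j).2]
  let σ : (ShortComplex.mk jn (away E T) hw).Splitting :=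
    { r := Sigma.desc fun i => if h : i ∈ T then eqToHom (by simp [E']) ≫ biproduct.ι E' (e ⟨i, h⟩) else 0
      s := sec
      f_r := biproduct.hom_ext' _ _ fun j => by
        have h := (e.symm j).2
        simp only [jn, biproduct.ι_desc_assoc, Sigma.ι_desc, dif_pos h, Category.comp_id]
        have he : e ⟨(e.symm j).1, h⟩ = j := by simp
        exact biproduct.eqToHom_comp_ι E' he.symm
      s_g := Sigma.hom_ext _ _ fun x => by simp [sec, ι_away_not_mem E T x.2]
      id := Sigma.hom_ext _ _ fun i => by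
        by_cases h : i ∈ T
        · simp only [Preadditive.comp_add, Sigma.ι_desc_assoc, dif_pos h, ← Category.assoc (Sigma.ι E i) (away E T),
            ι_away_mem E T h, zero_comp, add_zero, Category.comp_id]
          simp [jn, E']
        · simp [Preadditive.comp_add, dif_neg h, reassoc_of% (ι_away_not_mem E T h), sec] }
  exact ⟨σ.shortExact.epi_g, ⟨(kernelIsKernel (away E T)).conePointUniqueUpToIso σ.shortExact.fIsKernel⟩⟩

theorem exists_away {E₀ : A} {ι : Type v} (E : ι → A) [PreservesColimitsOfShape (Discrete ι) (preadditiveCoyoneda.obj (op E₀))]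
    (f : E₀ ⟶ ∐ E) : ∃ T : Finset ι, ∀ T', T ⊆ T' → f ≫ away E T' = 0 := by
  classical
  let G := preadditiveCoyoneda.obj (op E₀)
  let hc := isColimitCofanMkObjOfIsColimit G E (Sigma.ι E) (coproductIsCoproduct E)
  let H : AddSubgroup (E₀ ⟶ ∐ E) :=
    { carrier := {g | ∃ T : Finset ι, ∀ T', T ⊆ T' → g ≫ away E T' = 0}
      zero_mem' := ⟨∅, fun T' _ => zero_comp⟩
      add_mem' := fun {a b} ⟨T, hT⟩ ⟨U, hU⟩ => ⟨T ∪ U, fun T' h => by
        rw [Preadditive.add_comp, hT T' (Finset.union_subset_left h), hU T' (Finset.union_subset_right h), add_zero]⟩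
      neg_mem' := fun {a} ⟨T, hT⟩ => ⟨T, fun T' h => by rw [Preadditive.neg_comp, hT T' h, neg_zero]⟩ }
  have hq : AddCommGrpCat.ofHom (QuotientAddGroup.mk' H) = (0 : G.obj (∐ E) ⟶ AddCommGrpCat.of ((E₀ ⟶ ∐ E) ⧸ H)) :=
    hc.hom_ext fun ⟨i⟩ => by
      ext (g : E₀ ⟶ E i)
      refine (QuotientAddGroup.eq_zero_iff (g ≫ Sigma.ι E i)).2 ⟨{i}, fun T' h => ?_⟩
      rw [Category.assoc, ι_away_mem E T' (h (Finset.mem_singleton_self i)), comp_zero]
  exact (QuotientAddGroup.eq_zero_iff f).1 (ConcreteCategory.congr_hom hq f)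

variable [IsGrothendieckAbelian.{v} A] [HasDerivedCategory.{v} A] [HasCoproducts.{v} (DerivedCategory A)]

theorem exists_finite (S : Set A)
    (h2 : ∀ E ∈ S, ∀ ι : Type v, PreservesColimitsOfShape (Discrete ι) (preadditiveCoyoneda.obj (op E)))
    {K : DerivedCategory A} (hK : CohDer.IsCompactObject K) (a b : ℤ) (L₀ : CochainComplex A ℤ)
    (hL₀ : ∀ i, i < a ∨ b < i → IsZero (L₀.X i)) (hS : ∀ i, Sums S (L₀.X i)) (φ₀ : K ⟶ Q.obj L₀) :
    ∀ d : ℕ, ∃ (L : CochainComplex A ℤ) (φ : K ⟶ Q.obj L) (t : Q.obj L ⟶ Q.obj L₀), φ ≫ t = φ₀ ∧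
      (∀ i, i < a ∨ b < i → IsZero (L.X i)) ∧ (∀ i, i < a + d → FinSums S (L.X i)) ∧
        ∀ i, a + d ≤ i → Sums S (L.X i) := by
  classical
  intro d
  induction d with
  | zero => exact ⟨L₀, φ₀, 𝟙 _, Category.comp_id _, hL₀, fun i hi => finSums_of_isZero S (hL₀ i (Or.inl (by omega))), fun i _ => hS i⟩
  | succ d ih =>
    obtain ⟨L, φ, t, ht, hz, hfin, hsum⟩ := ih
    set j := a + (d : ℤ) with hj
    obtain ⟨ι, E, hE, ⟨e⟩⟩ := hsum j le_rfl
    obtain ⟨n, E', hE', ⟨e'⟩⟩ := hfin (j - 1) (by omega)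
    haveI := fun k => h2 (E' k) (hE' k) ι
    choose T hT using fun k => exists_away E (biproduct.ι E' k ≫ e'.inv ≫ L.d (j - 1) j ≫ e.hom)
    let T₁ := Finset.univ.biUnion T
    have hd : ∀ T', T₁ ⊆ T' → L.d (j - 1) j ≫ e.hom ≫ away E T' = 0 := fun T' h => by
      rw [← cancel_epi e'.inv, comp_zero]
      refine biproduct.hom_ext' _ _ fun k => ?_
      have := hT k T' ((Finset.subset_biUnion_of_mem T (Finset.mem_univ k)).trans h)
      simpa using this
    have hrel : ∀ T', T₁ ⊆ T' → ∀ i, (ComplexShape.up ℤ).Rel i j → L.d i j ≫ e.hom ≫ away E T' = 0 := fun T' h i hi => by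
      obtain rfl : i = j - 1 := by simp at hi; omega
      exact hd T' h
    let R : Finset ι → A := fun T' => ∐ fun x : {x // x ∉ T'} => E x.1
    let c : ∀ T', T₁ ⊆ T' → (L ⟶ (HomologicalComplex.single A (ComplexShape.up ℤ) j).obj (R T')) := fun T' h =>
      HomologicalComplex.mkHomToSingle (e.hom ≫ away E T') (hrel T' h)
    let X : {x // x ∉ T₁} → CochainComplex A ℤ := fun x => (HomologicalComplex.single A (ComplexShape.up ℤ) j).obj (E x.1)
    let cmp : ∐ X ⟶ (HomologicalComplex.single A (ComplexShape.up ℤ) j).obj (R T₁) :=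
      sigmaComparison (HomologicalComplex.single A (ComplexShape.up ℤ) j) _
    obtain ⟨s, hs⟩ := exists_finite_support hK X (φ ≫ Q.map (c T₁ subset_rfl ≫ CategoryTheory.inv cmp))
    let T₂ := T₁ ∪ s.image Subtype.val
    have hsub : T₁ ⊆ T₂ := Finset.subset_union_left
    have hker : φ ≫ Q.map (c T₂ hsub) = 0 := by
      let ρ : R T₁ ⟶ R T₂ := Sigma.desc fun x => Sigma.ι E x.1 ≫ away E T₂
      have hρ : away E T₁ ≫ ρ = away E T₂ := Sigma.hom_ext _ _ fun i => by
        by_cases h : i ∈ T₁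
        · rw [← Category.assoc, ι_away_mem E T₁ h, zero_comp, ι_away_mem E T₂ (hsub h)]
        · rw [← Category.assoc, ι_away_not_mem E T₁ h]
          simp [ρ]
      have hc : c T₂ hsub = (c T₁ subset_rfl ≫ CategoryTheory.inv cmp) ≫ cmp ≫
          (HomologicalComplex.single A (ComplexShape.up ℤ) j).map ρ := by
        rw [Category.assoc, IsIso.inv_hom_id_assoc]
        apply HomologicalComplex.to_single_hom_ext
        simp [c, HomologicalComplex.mkHomToSingle_f, HomologicalComplex.single_map_f_self, reassoc_of% hρ]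
      rw [hc, Q.map_comp, ← Category.assoc]
      refine hs _ fun x hx => ?_
      rw [ι_comp_sigmaComparison_assoc, ← Functor.map_comp]
      simp [ρ, ι_away_mem E T₂ (Finset.mem_union_right T₁ (Finset.mem_image_of_mem Subtype.val hx))]
    haveI hepi : Epi (c T₂ hsub) := by
      haveI := (kernel_away E T₂).1
      refine HomologicalComplex.epi_of_epi_f _ fun i => ?_
      by_cases h : i = j
      · subst h
        rw [HomologicalComplex.mkHomToSingle_f]
        infer_instance
      · exact ⟨fun _ _ _ => (HomologicalComplex.isZero_single_obj_X _ _ _ _ h).eq_of_src _ _⟩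
    let Sc : ShortComplex (CochainComplex A ℤ) := ShortComplex.mk (kernel.ι (c T₂ hsub)) (c T₂ hsub) (kernel.condition _)
    obtain ⟨ψ, hψ⟩ := exists_factor_of_shortExact (S := Sc) { exact := ShortComplex.exact_kernel _ } φ hker
    have hne : ∀ i, i ≠ j → Nonempty ((kernel (c T₂ hsub)).X i ≅ L.X i) := fun i hi => by
      haveI : IsIso ((kernel.ι (c T₂ hsub)).f i) := by
        have hse := (show Sc.ShortExact from { exact := ShortComplex.exact_kernel _ }).map_of_exact
          (HomologicalComplex.eval A (ComplexShape.up ℤ) i)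
        change IsIso (Sc.map (HomologicalComplex.eval A (ComplexShape.up ℤ) i)).f
        exact hse.isIso_f_iff.2 (HomologicalComplex.isZero_single_obj_X (ComplexShape.up ℤ) j (R T₂) i hi)
      exact ⟨asIso ((kernel.ι (c T₂ hsub)).f i)⟩
    have hj' : Nonempty ((kernel (c T₂ hsub)).X j ≅ ⨁ fun k : Fin T₂.card => E (T₂.equivFin.symm k).1) := by
      obtain ⟨hk⟩ := (kernel_away E T₂).2
      have hsc : (c T₂ hsub).f j = (e.hom ≫ away E T₂) ≫ (HomologicalComplex.singleObjXSelf (ComplexShape.up ℤ) j (R T₂)).inv :=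
        HomologicalComplex.mkHomToSingle_f _ _
      exact ⟨PreservesKernel.iso (HomologicalComplex.eval A (ComplexShape.up ℤ) j) (c T₂ hsub) ≪≫
        kernelIsoOfEq hsc ≪≫ kernelCompMono _ _ ≪≫ kernelIsIsoComp e.hom (away E T₂) ≪≫ hk⟩
    refine ⟨kernel (c T₂ hsub), ψ, Q.map (kernel.ι (c T₂ hsub)) ≫ t, by rw [← Category.assoc, hψ, ht], fun i hi => ?_,
      fun i hi => ?_, fun i hi => ?_⟩
    · exact IsZero.of_mono ((kernel.ι (c T₂ hsub)).f i) (hz i hi)
    · by_cases h : i = j
      · subst h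
        exact ⟨T₂.card, _, fun k => hE _, hj'⟩
      · obtain ⟨n', E'', hE'', ⟨e''⟩⟩ := hfin i (by omega)
        exact ⟨n', E'', hE'', ⟨(hne i h).some ≪≫ e''⟩⟩
    · obtain ⟨ι', E'', hE'', ⟨e''⟩⟩ := hsum i (by omega)
      exact ⟨ι', E'', hE'', ⟨(hne i (by omega)).some ≪≫ e''⟩⟩

end Groth.Agent.CptRetract8
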